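import Cfsg.Agent.H116.RatB0.RowRgd
import Cfsg.Agent.H443.XC.Defs
import Cfsg.Agent.H98.SzBasic
import Cfsg.Agent.OddCyclic.ClaimC.SzIso
import Cfsg.Agent.FixBN.ReeSplit
import Cfsg.Agent.S0157
import Cfsg.Agent.H649.Transport
import Cfsg.Agent.FastGrp
import Cfsg.Agent.Prune
set_option linter.all false
prune_inst 0x7f00000000000000000000000000000000000000000000000000000000000000000000000000000000000000000000000000000000000000000000000000000000000000000000000000000000000000003fffffffffffffffffffffffffffbeffbdffffffff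
open scoped Cfsg.Agent.FastGrp

/-!
# S4857, S4858, S4891: the rows `Sz(q)` and `²G₂(q)`, cross characteristic (helper908)

* `rowInt_of_rank_one` : `B` of index `> 2` with two double cosets, `B` the normalizer of a Sylow subgroup,
  `p ∤ |S : B| - 1`, and `p ∣ |S : B|` or the centralizer of some `p`-subgroup of `B` is contained in `B`: `RowInt p S`;
* `rowZ_sz`, `rowZ_ree`, `row57_sz`, `row57_ree`.
-/

set_option autoImplicit false
set_option linter.unusedSectionVars false

namespace Cfsg.Agent.H908.BR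

open Cfsg Subgroup Cfsg.Agent.H116.RatB0 Cfsg.Agent.H145.BR Cfsg.Agent.H685.BR
open scoped Pointwise

universe u

section general

variable {S : Type u} [Group S]

/-- two double cosets: the action on the cosets is 2-transitive -/
theorem two_trans_of {B : Subgroup S} {n : S} (hB : ∀ g : S, g ∈ B ∨ ∃ b ∈ B, ∃ b' ∈ B, g = b * n * b') :
    MulAction.IsMultiplyPretransitive S (S ⧸ B) 2 := by
  have key : ∀ x y : S ⧸ B, x ≠ y → ∃ g : S, g • x = ((1 : S) : S ⧸ B) ∧ g • y = ((n : S) : S ⧸ B) := by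
    intro x y hxy
    obtain ⟨a, rfl⟩ := QuotientGroup.mk_surjective x
    obtain ⟨c, rfl⟩ := QuotientGroup.mk_surjective y
    rcases hB (a⁻¹ * c) with h | ⟨b, hb, b', hb', h⟩
    · exact absurd (QuotientGroup.eq.2 h) hxy
    · refine ⟨b⁻¹ * a⁻¹, ?_, ?_⟩
      · rw [MulAction.Quotient.smul_mk, QuotientGroup.eq, smul_eq_mul]
        have e : (b⁻¹ * a⁻¹ * a)⁻¹ * 1 = b := by group
        rw [e]
        exact hb
      · rw [MulAction.Quotient.smul_mk, QuotientGroup.eq, smul_eq_mul]
        have e : (b⁻¹ * a⁻¹ * c)⁻¹ * n = b'⁻¹ := by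
          have h1 : b⁻¹ * a⁻¹ * c = n * b' := by
            rw [mul_assoc, h]; group
          rw [h1]; group
        rw [e]
        exact inv_mem hb'
  rw [MulAction.is_two_pretransitive_iff]
  intro a b c d hab hcd
  obtain ⟨g, hg1, hg2⟩ := key a b hab
  obtain ⟨g', hg1', hg2'⟩ := key c d hcd
  refine ⟨g'⁻¹ * g, ?_, ?_⟩
  · rw [mul_smul, hg1, ← hg1', inv_smul_smul]
  · rw [mul_smul, hg2, ← hg2', inv_smul_smul]

/-- the class of the normalizer of a Sylow subgroup is invariant under automorphisms -/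
theorem normalizer_aut [Finite S] {l : ℕ} [Fact l.Prime] (P : Sylow l S) (a : MulAut S) :
    ∃ s : S, ∀ x : S, x ∈ normalizer (P : Set S) ↔ s⁻¹ * a x * s ∈ normalizer (P : Set S) := by
  obtain ⟨s, hs⟩ := MulAction.exists_smul_eq S P (a • P)
  refine ⟨s, fun x => ?_⟩
  rw [← Sylow.smul_eq_iff_mem_normalizer, ← Sylow.smul_eq_iff_mem_normalizer]
  have e1 : ∀ x : S, a • (x • P) = (a x) • (a • P) := by
    intro x
    rw [Sylow.smul_def, Sylow.smul_def, smul_smul, smul_smul]
    congr 1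
    ext y
    simp
  have e2 : (s⁻¹ * a x * s) • P = s⁻¹ • ((a x) • (a • P)) := by
    rw [← hs, smul_smul, smul_smul]
  rw [e2, ← e1, inv_smul_eq_iff, hs]
  exact (smul_left_cancel_iff a).symm

/-- **the criterion** for groups with two double cosets -/
theorem rowInt_of_rank_one [Finite S] {p : ℕ} [Fact p.Prime] {B : Subgroup S} {n : S}
    (hB : ∀ g : S, g ∈ B ∨ ∃ b ∈ B, ∃ b' ∈ B, g = b * n * b') (hi : 2 < B.index) (hd : ¬ p ∣ B.index - 1)
    (hp : p ∣ B.index ∨ ∃ Q : Subgroup S, IsPGroup p Q ∧ Q ≤ B ∧ centralizer (Q : Set S) ≤ B)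
    {l : ℕ} [Fact l.Prime] (P : Sylow l S) (hP : normalizer (P : Set S) = B) : RowInt p S := by
  classical
  intro M hM
  have h2 := two_trans_of hB
  have hcard : Nat.card (S ⧸ B) = B.index := rfl
  have hirr := (Cfsg.Agent.S0157.result (G := S) (S ⧸ B) (by rw [hcard]; omega)).2 h2
  set θ : IrrCharacter S := ⟨_, hirr⟩ with hθ
  have hval : ∀ g, (θ : S → ℂ) g = fixedPointCharacter B g - 1 := fun g => rfl
  have htop : ∀ g : S, fixedPointCharacter (⊤ : Subgroup S) g = 1 := by
    intro g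
    unfold fixedPointCharacter
    have : Nat.card (MulAction.fixedBy (S ⧸ (⊤ : Subgroup S)) g) = 1 := by
      rw [Nat.card_eq_one_iff_unique]
      have hs : Subsingleton (S ⧸ (⊤ : Subgroup S)) := QuotientGroup.subsingleton_quotient_top
      exact ⟨⟨fun x y => Subtype.ext (Subsingleton.elim _ _)⟩, ⟨⟨((1 : S) : S ⧸ (⊤ : Subgroup S)), Subsingleton.elim _ _⟩⟩⟩
    rw [this, Nat.cast_one]
  have hone : fixedPointCharacter B 1 = (B.index : ℂ) := by
    unfold fixedPointCharacter
    congr 1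
    rw [← hcard]
    refine Nat.card_congr ((Equiv.setCongr ?_).trans (Equiv.Set.univ _))
    rw [Set.eq_univ_iff_forall]
    intro x
    rw [MulAction.mem_fixedBy, one_smul]
  have hdeg : charDegree (θ : S → ℂ) = B.index - 1 := by
    have h3 : (charDegree (θ : S → ℂ) : ℂ) = (θ : S → ℂ) 1 := (Blocks.Knorr.charDegree_eq θ.2).symm
    rw [hval, hone] at h3
    have h4 : ((B.index - 1 : ℕ) : ℂ) = (B.index : ℂ) - 1 := by
      rw [Nat.cast_sub (by omega), Nat.cast_one]
    rw [← h4] at h3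
    exact_mod_cast h3
  have hdeg' : ¬ p ∣ charDegree (θ : S → ℂ) := by rw [hdeg]; exact hd
  refine ⟨θ, ?_, ?_, hdeg', ?_, ?_⟩
  · refine mem_of_alt hM (Finset.univ : Finset Bool) (fun i => if i then 1 else -1) (fun i => if i then B else ⊤) θ
      (fun g => ?_) hdeg' ?_
    · rw [hval]
      simp [htop, sub_eq_add_neg]
    · intro i _
      cases i
      · right
        simp only [Bool.false_eq_true, if_false]
        exact Nat.ModEq.refl _
      · simp only [if_true]
        rcases hp with h | ⟨Q, hQ1, hQ2, hQ3⟩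
        · exact Or.inl h
        · exact Or.inr (reg_modEq_of_le hQ1 hQ2 hQ3)
  · intro h
    have h1 := congrFun h 1
    rw [hval, hone] at h1
    have h2 : (B.index : ℂ) = 2 := by linear_combination h1
    have h3 : B.index = 2 := by exact_mod_cast h2
    omega
  · intro g
    refine ⟨(Nat.card (MulAction.fixedBy (S ⧸ B) g) : ℤ) - 1, ?_⟩
    rw [hval]
    unfold fixedPointCharacter
    push_cast
    rfl
  · intro a x
    rw [hval, hval]
    congr 1
    obtain ⟨s, hs⟩ := normalizer_aut P a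
    rw [hP] at hs
    have e : B.map a.toMonoidHom = B.map (MulAut.conj s).toMonoidHom := by
      ext y
      constructor
      · rintro ⟨b, hb, rfl⟩
        refine ⟨s⁻¹ * a b * s, (hs b).1 hb, ?_⟩
        change MulAut.conj s (s⁻¹ * a b * s) = a b
        rw [MulAut.conj_apply]
        group
      · rintro ⟨b, hb, rfl⟩
        refine ⟨a⁻¹ (s * b * s⁻¹), (hs _).2 ?_, ?_⟩
        · rw [MulAut.apply_inv_self]
          have : s⁻¹ * (s * b * s⁻¹) * s = b := by group
          rw [this]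
          exact hb
        · change a (a⁻¹ (s * b * s⁻¹)) = MulAut.conj s b
          rw [MulAut.apply_inv_self, MulAut.conj_apply]
    rw [← fix_map a B x, e, fix_conj]

universe v

/-- `RowInt` is invariant under isomorphisms -/
theorem rowInt_congr {p : ℕ} {T : Type v} [Group T] (e : S ≃* T) (h : RowInt p T) : RowInt p S := by
  intro M hM
  obtain ⟨θ, h1, h2, h3, h4, h5⟩ := h M hM
  refine ⟨H649.irrMap e.symm θ, ?_, ?_, ?_, fun g => h4 _, fun a x => ?_⟩
  · rw [← H649.blkMap_principalBlock e.symm]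
    exact H649.irrMap_mem_blkMap.2 h1
  · intro h6
    apply h2
    funext t
    have h7 := congrFun h6 (e.symm t)
    have h8 : (H649.irrMap e.symm θ : S → ℂ) (e.symm t) = (θ : T → ℂ) (e.symm.symm (e.symm t)) := rfl
    rw [h8, MulEquiv.symm_symm, MulEquiv.apply_symm_apply] at h7
    exact h7
  · rw [H649.charDegree_irrMap]
    exact h3
  · have h6 := h5 (MulAut.congr e a) (e x)
    have h7 : (MulAut.congr e a) (e x) = e (a x) := by
      show e (a (e.symm (e x))) = e (a x)
      rw [MulEquiv.symm_apply_apply]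
    rw [h7] at h6
    exact h6

end general

/-! ### the Ree groups -/

section ree

open Cfsg.Agent.LieRecognition.ReeAbs Cfsg.Agent.LieRecognition.ReeSylowThree Cfsg.Agent.FixBN.ReeSplit

variable {K : Type*} [Field K] [Fintype K] {m : ℕ} {G : Type u} [Group G] {U : K → K → K → G} {h : Kˣ → G} {n : G}

theorem card_bSub (D : Data m U h n) : Nat.card (bSub D) = (Fintype.card K) ^ 3 * (Fintype.card K - 1) := by
  have e : bSub D ≃ K × K × K × Kˣ := by
    refine (Equiv.ofBijective (fun x : K × K × K × Kˣ => (⟨U x.1 x.2.1 x.2.2.1 * h x.2.2.2,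
      ⟨_, ⟨x.1, x.2.1, x.2.2.1, rfl⟩, x.2.2.2, rfl⟩⟩ : bSub D)) ⟨?_, ?_⟩).symm
    · rintro ⟨a, b, c, d⟩ ⟨a', b', c', d'⟩ hab
      obtain ⟨h1, h2, h3, h4⟩ := D.inj₁ _ _ _ _ _ _ _ _ (congrArg Subtype.val hab)
      simp only at h1 h2 h3 h4
      rw [h1, h2, h3, h4]
    · rintro ⟨_, _, ⟨t, u, v, rfl⟩, a, rfl⟩
      exact ⟨(t, u, v, a), rfl⟩
  rw [Nat.card_congr e, Nat.card_prod, Nat.card_prod, Nat.card_prod, Nat.card_units, Nat.card_eq_fintype_card]
  ring

theorem index_bSub (D : Data m U h n) : (bSub D).index = (Fintype.card K) ^ 3 + 1 := by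
  have h1 := (bSub D).card_mul_index
  rw [card_bSub, card_eq D, mul_assoc, mul_assoc] at h1
  have h0 : 1 < Fintype.card K := Fintype.one_lt_card
  have h2 := Nat.eq_of_mul_eq_mul_left (pow_pos (by omega) 3) h1
  exact Nat.eq_of_mul_eq_mul_left (by omega) h2

theorem normalizer_uSub (D : Data m U h n) : normalizer ((uSub D : Subgroup G) : Set G) = bSub D := by
  apply le_antisymm
  · intro g hg
    rcases bruhat' D g with h1 | ⟨b, hb, b', hb', rfl⟩
    · exact h1
    · exfalso
      have hN : bSub D ≤ normalizer ((uSub D : Subgroup G) : Set G) := by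
        rintro _ ⟨u, hu, a, rfl⟩
        refine mul_mem (le_normalizer hu) ?_
        rw [mem_normalizer_iff]
        intro x
        refine ⟨fun hx => h_conj_mem D a hx, fun hx => ?_⟩
        have h2 := h_conj_mem D a⁻¹ hx
        have h3 : h a⁻¹ * (h a * x * (h a)⁻¹) * (h a⁻¹)⁻¹ = x := by
          rw [D.h_inv]; group
        rwa [h3] at h2
      have hn : n ∈ normalizer ((uSub D : Subgroup G) : Set G) := by
        have h2 := mul_mem (mul_mem (inv_mem (hN hb)) hg) (inv_mem (hN hb'))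
        have h3 : b⁻¹ * (b * n * b') * b'⁻¹ = n := by group
        rwa [h3] at h2
      have h1 : U 1 0 0 ∈ uSub D := ⟨1, 0, 0, rfl⟩
      have h2 := (mem_normalizer_iff.1 hn _).1 h1
      rw [D.n_inv] at h2
      have h3 := eq_one_of_conj D h1 (uSub_le_bSub D h2)
      have h4 := U_injective D (h3.trans D.U_zero.symm)
      exact one_ne_zero h4.1
  · rintro _ ⟨u, hu, a, rfl⟩
    refine mul_mem (le_normalizer hu) ?_
    rw [mem_normalizer_iff]
    intro x
    refine ⟨fun hx => h_conj_mem D a hx, fun hx => ?_⟩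
    have h2 := h_conj_mem D a⁻¹ hx
    have h3 : h a⁻¹ * (h a * x * (h a)⁻¹) * (h a⁻¹)⁻¹ = x := by
      rw [D.h_inv]; group
    rwa [h3] at h2

theorem cent_h (D : Data m U h n) {a : Kˣ} (ha : a * a ≠ 1) :
    centralizer ((Subgroup.zpowers (h a) : Subgroup G) : Set G) ≤ bSub D := by
  intro g hg
  have hga : h a * g = g * h a := mem_centralizer_iff.1 hg _ (Subgroup.mem_zpowers _)
  rcases D.bruhat g with ⟨t, u, v, b, rfl⟩ | ⟨t, u, v, b, t', u', v', rfl⟩
  · exact ⟨_, ⟨t, u, v, rfl⟩, b, rfl⟩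
  · exfalso
    obtain ⟨w', hw'⟩ : ∃ x : K × K × K, h a⁻¹ * U t' u' v' = U x.1 x.2.1 x.2.2 * h a⁻¹ := ⟨(_, _, _), D.h_U _ _ _ _⟩
    have e1 : h a * (U t u v * h b * n * U t' u' v') * h a⁻¹ = U t u v * h b * n * U t' u' v' := by
      rw [hga, D.h_inv, mul_inv_cancel_right]
    have e2 : h a * (U t u v * h b * n * U t' u' v') * h a⁻¹ =
        (h a * U t u v) * h b * n * (U t' u' v' * h a⁻¹) := by group
    have e3 : U t' u' v' * h a⁻¹ = h a⁻¹ * (h a * U t' u' v') * h a⁻¹ := by
      rw [← mul_assoc (h a⁻¹), ← D.h_mul, inv_mul_cancel, D.h_one, one_mul]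
    rw [e2, e3, D.h_U, D.h_U] at e1
    have e4 : ∀ X Y : G, X * h a * h b * n * (h a⁻¹ * (Y * h a) * h a⁻¹) = X * h (a * b * a) * n * Y := by
      intro X Y
      have f1 : h a⁻¹ * (Y * h a) * h a⁻¹ = h a⁻¹ * Y := by
        rw [mul_assoc, mul_assoc, ← D.h_mul, mul_inv_cancel, D.h_one, mul_one]
      rw [f1, ← mul_assoc _ (h a⁻¹) Y, mul_assoc _ n (h a⁻¹), D.n_h, inv_inv, D.h_mul, D.h_mul]
      group
    rw [e4] at e1
    obtain ⟨-, -, -, h4, -, -, -⟩ := D.inj₂ _ _ _ _ _ _ _ _ _ _ _ _ _ _ e1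
    apply ha
    have h5 : a * b * a = b * (a * a) := by rw [mul_comm a b, mul_assoc]
    rw [h5] at h4
    exact mul_left_cancel (h4.trans (mul_one b).symm)

theorem rowInt_ree (hK : Fintype.card K = 3 ^ (2 * m + 1)) (D : Data m U h n) {p : ℕ} [hp : Fact p.Prime]
    (hp3 : p ≠ 3) (hd : p ∣ Nat.card G) : RowInt p G := by
  have : Finite G := finite D
  have : Fact (Nat.Prime 3) := ⟨Nat.prime_three⟩
  have hpg : IsPGroup 3 (uSub D) := by
    apply IsPGroup.of_card (n := (2 * m + 1) * 3)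
    rw [card_uSub, hK, pow_mul]
  have hcard := card_eq D
  have hidx : (uSub D).index = (Fintype.card K - 1) * ((Fintype.card K) ^ 3 + 1) := by
    have h1 := (uSub D).card_mul_index
    rw [card_uSub, hcard, mul_assoc] at h1
    exact Nat.eq_of_mul_eq_mul_left (pow_pos (Fintype.card_pos) 3) h1
  have hq : 3 ∣ Fintype.card K := by rw [hK]; exact dvd_pow_self 3 (by omega)
  have hn3 : ¬ 3 ∣ (uSub D).index := by
    rw [hidx, Nat.prime_three.dvd_mul]
    have h0 := Fintype.card_pos (α := K)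
    obtain ⟨c, hc⟩ := hq
    rintro (h1 | h1)
    · obtain ⟨d, hd⟩ := h1
      omega
    · have h2 : 3 ∣ Fintype.card K ^ 3 := dvd_pow ⟨c, hc⟩ (by decide)
      rw [Nat.dvd_add_right h2] at h1
      omega
  have hpq : ¬ p ∣ Fintype.card K ^ 3 := by
    rw [hK]
    intro h1
    exact hp3 ((Nat.prime_dvd_prime_iff_eq hp.out Nat.prime_three).1
      (hp.out.dvd_of_dvd_pow (hp.out.dvd_of_dvd_pow h1)))
  refine rowInt_of_rank_one (B := bSub D) (n := n) (bruhat' D) ?_ ?_ ?_ (hpg.toSylow hn3) (normalizer_uSub D)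
  · rw [index_bSub]
    have h0 : 1 < Fintype.card K := Fintype.one_lt_card
    have h1 : 1 < Fintype.card K ^ 3 := Nat.one_lt_pow (by norm_num) h0
    omega
  · rw [index_bSub, Nat.add_sub_cancel]
    exact hpq
  · by_cases h1 : p ∣ (bSub D).index
    · exact Or.inl h1
    · right
      rw [index_bSub] at h1
      rw [hcard, hp.out.dvd_mul, hp.out.dvd_mul] at hd
      have h2 : p ∣ Fintype.card K - 1 := by
        rcases hd with (h | h) | h
        · exact absurd h hpq
        · exact h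
        · exact absurd h h1
      have h2' : p ∣ Nat.card Kˣ := by rwa [Nat.card_units, Nat.card_eq_fintype_card]
      obtain ⟨a, ha⟩ := exists_prime_orderOf_dvd_card' (G := Kˣ) p h2'
      have hp2 : p ≠ 2 := by
        rintro rfl
        apply h1
        rw [hK]
        have h3 : Odd ((3 ^ (2 * m + 1)) ^ 3) := Odd.pow (Odd.pow (by decide))
        exact (h3.add_one).two_dvd
      have ha2 : a * a ≠ 1 := by
        intro h3
        have h4 : orderOf a ∣ 2 := orderOf_dvd_of_pow_eq_one (by rw [sq]; exact h3)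
        rw [ha] at h4
        exact hp2 ((Nat.prime_dvd_prime_iff_eq hp.out Nat.prime_two).1 h4)
      refine ⟨zpowers (h a), ?_, ?_, cent_h D ha2⟩
      · have hhp : ∀ k : ℕ, h a ^ k = h (a ^ k) := by
          intro k
          induction k with
          | zero => rw [pow_zero, pow_zero, D.h_one]
          | succ k ih => rw [pow_succ, pow_succ, ih, D.h_mul]
        have h4 : h a ^ p = 1 := by rw [hhp, ← ha, pow_orderOf_eq_one, D.h_one]
        obtain ⟨j, -, hj⟩ := (Nat.dvd_prime_pow hp.out (m := 1) (i := orderOf (h a))).1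
          (by rw [pow_one]; exact orderOf_dvd_of_pow_eq_one h4)
        exact IsPGroup.of_card (n := j) (by rw [Nat.card_zpowers, hj])
      · rw [zpowers_le]
        exact h_mem_bSub D a

/-- **`²G₂(q)`, `p ≠ 3`** -/
theorem rowForZ_ree {p : ℕ} [Fact p.Prime] (hp3 : p ≠ 3) : RowForZ p (fun X _ => Lie.IsoRee X) := by
  intro X _ _ _ _ hd hX
  obtain ⟨K, _, _, m, hm, hK, ⟨e⟩⟩ := hX
  obtain ⟨U, h, n, D⟩ := Cfsg.Agent.ChevalleyStructure.Ree.Data.exists_data hK
  exact (rowInt_congr e (rowInt_ree hK D hp3 (by rwa [Nat.card_congr e.toEquiv] at hd))).rowZ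

end ree

/-! ### the Suzuki groups -/

section sz

open MulAction Cfsg.Agent.LieExceptional Cfsg.Agent.LieExceptional.SuzukiSylow Cfsg.Agent.H98.SzBasic

variable {F : Type} [Field F] [Fintype F] {m : ℕ}

theorem rowInt_sz (hm : 1 ≤ m) (hF : Fintype.card F = 2 ^ (2 * m + 1)) {p : ℕ} [hp : Fact p.Prime] (hp2 : p ≠ 2)
    (hd : p ∣ Nat.card (Cfsg.Sz F m)) : RowInt p (Cfsg.Sz F m) := by
  have hfin := finite_ovoid F m
  have : Fact (Nat.Prime 2) := ⟨Nat.prime_two⟩
  have hfG : Finite (Cfsg.Sz F m) := inferInstance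
  have h1p : IsPretransitive (Cfsg.Sz F m) (Cfsg.suzukiOvoid F m) := ⟨fun p q => by
    obtain ⟨g, hg⟩ := exists_move_inf (m := m) hF p
    obtain ⟨g', hg'⟩ := exists_move_inf (m := m) hF q
    exact ⟨g'⁻¹ * g, by rw [mul_smul, hg, ← hg', inv_smul_smul]⟩⟩
  have hX : Nat.card (Cfsg.suzukiOvoid F m) = (2 ^ (2 * m + 1)) ^ 2 + 1 := by
    rw [SuzukiBasic.ovoid_card, Nat.card_eq_fintype_card, hF]
  set B : Subgroup (Cfsg.Sz F m) := stabilizer (Cfsg.Sz F m) (inf F m) with hB
  have hidx : B.index = (2 ^ (2 * m + 1)) ^ 2 + 1 := by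
    rw [hB, MulAction.index_stabilizer_of_transitive, hX]
  have hq4 : 2 ≤ 2 ^ (2 * m + 1) := by
    calc 2 = 2 ^ 1 := rfl
      _ ≤ _ := Nat.pow_le_pow_right (by norm_num) (by omega)
  have hmem : ∀ g, g ∈ B ↔ g • inf F m = inf F m := fun g => Iff.rfl
  have hu : ∀ a b : F, u hF a b ∈ B := fun a b => (hmem _).2 (u_smul_inf hF a b)
  have hh : ∀ k : Fˣ, h hF k ∈ B := fun k => (hmem _).2 (h_smul_inf hF k)
  refine rowInt_of_rank_one (B := B) (n := w hF) (fun g => ?_) ?_ ?_ ?_ (sylowQ hm hF) ?_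
  · rcases bruhat' hm hF g with ⟨a, b, k, rfl⟩ | ⟨a, b, k, c, d, rfl⟩
    · exact Or.inl (mul_mem (hu a b) (hh k))
    · exact Or.inr ⟨_, hu a b, h hF k * u hF c d, mul_mem (hh k) (hu c d), by group⟩
  · rw [hidx]
    nlinarith
  · rw [hidx, Nat.add_sub_cancel]
    intro h1
    exact hp2 ((Nat.prime_dvd_prime_iff_eq hp.out Nat.prime_two).1
      (hp.out.dvd_of_dvd_pow (hp.out.dvd_of_dvd_pow h1)))
  · by_cases h1 : p ∣ B.index
    · exact Or.inl h1
    · right
      rw [hidx] at h1
      have h2 : p ∣ 2 ^ (2 * m + 1) - 1 := by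
        rw [card_Sz hm hF] at hd
        rcases (hp.out.dvd_mul).1 hd with h | h
        · exact absurd h h1
        · rcases (hp.out.dvd_mul).1 h with h | h
          · exact absurd ((Nat.prime_dvd_prime_iff_eq hp.out Nat.prime_two).1
              (hp.out.dvd_of_dvd_pow (hp.out.dvd_of_dvd_pow h))) hp2
          · exact h
      have h2' : p ∣ Nat.card Fˣ := by rwa [Nat.card_units, Nat.card_eq_fintype_card, hF]
      obtain ⟨k, hk⟩ := exists_prime_orderOf_dvd_card' (G := Fˣ) p h2'
      have hk1 : k ≠ 1 := by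
        rintro rfl
        rw [orderOf_one] at hk
        exact hp.out.one_lt.ne hk
      refine ⟨zpowers (h hF k), ?_, ?_, ?_⟩
      · have h4 : h hF k ^ p = 1 := by
          have h5 : h hF k ^ p = h hF (k ^ p) := by
            rw [← hHom_apply, ← hHom_apply, map_pow]
          rw [h5, ← hk, pow_orderOf_eq_one, h_one]
        obtain ⟨j, -, hj⟩ := (Nat.dvd_prime_pow hp.out (m := 1) (i := orderOf (h hF k))).1
          (by rw [pow_one]; exact orderOf_dvd_of_pow_eq_one h4)
        exact IsPGroup.of_card (n := j) (by rw [Nat.card_zpowers, hj])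
      · rw [zpowers_le]
        exact hh k
      · intro g hg
        have h5 : g ∈ centralizer ({h hF k} : Set (Cfsg.Sz F m)) := by
          rw [mem_centralizer_singleton_iff]
          exact (mem_centralizer_iff.1 hg _ (mem_zpowers _)).symm
        rw [centralizer_h hm hF hk1] at h5
        obtain ⟨l, rfl⟩ := h5
        exact hh l
  · ext g
    rw [← Sylow.smul_eq_iff_mem_normalizer, smul_sylowQ_eq_iff, hmem]

/-- **`Sz(q)`, `p` odd** -/
theorem rowForZ_sz {p : ℕ} [Fact p.Prime] (hp2 : p ≠ 2) : RowForZ p (fun X _ => Lie.IsoSuzuki X) := by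
  intro X _ _ _ _ hd hX
  obtain ⟨F, _, _, m, hm, hF, ⟨e⟩⟩ := hX
  obtain ⟨i⟩ := Cfsg.Agent.OddCyclic.ClaimC.SzIso.iso hm hF
  have e' := e.trans i.symm
  exact (rowInt_congr e' (rowInt_sz hm hF hp2 (by rwa [Nat.card_congr e'.toEquiv] at hd))).rowZ

end sz

end Cfsg.Agent.H908.BR

private theorem dce_87a37dd8219a : _root_.True := by
  try have : _root_.True := by simp only [_root_.Cfsg.Agent.H98.SzBasic.w.congr_simp]
  exact _root_.True.intro
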